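import Groth.Agent.AWNLib.Basic
import Groth.Agent.AWNLib.Functor
import Groth.Agent.AlgSpLib.ReducedSmooth
import Mathlib.RingTheory.Smooth.IntegralClosure

/-!
# Weak subintegral closure and base change by localizations and étale maps
-/

set_option backward.isDefEq.respectTransparency false
set_option backward.isDefEq.respectTransparency.types false

universe u

open AlgebraicGeometry CategoryTheory TensorProduct

namespace WeakSubintLib

variable {A B : Type u} [CommRing A] [CommRing B] [Algebra A B]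

/-- Two embeddings of an element of a universal homeomorphism differ by a nilpotent. -/
theorem isNilpotent_sub {D : Type u} [CommRing D] [Algebra A D]
    (h : FlatMor.IsUnivHomeo (Spec.map (CommRingCat.ofHom (algebraMap A D)))) (d : D) :
    IsNilpotent ((d ⊗ₜ[A] (1 : D)) - (1 : D) ⊗ₜ[A] d) := by
  rw [nilpotent_iff_mem_prime]
  intro J hJ
  rw [← Ideal.algebraMap_residueField_eq_zero, map_sub, sub_eq_zero]
  refine DFunLike.congr_fun (((AWNLib.univHomeo_iff _).1 h).2.2 J.ResidueField
    ((algebraMap (D ⊗[A] D) _).comp Algebra.TensorProduct.includeLeftRingHom)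
    ((algebraMap (D ⊗[A] D) _).comp (Algebra.TensorProduct.includeRight : D →ₐ[A] D ⊗[A] D).toRingHom) ?_) d
  ext a
  show algebraMap (D ⊗[A] D) J.ResidueField (algebraMap A D a ⊗ₜ[A] (1 : D)) =
    algebraMap (D ⊗[A] D) J.ResidueField ((1 : D) ⊗ₜ[A] algebraMap A D a)
  refine congrArg (algebraMap (D ⊗[A] D) J.ResidueField) ?_
  rw [Algebra.algebraMap_eq_smul_one, TensorProduct.smul_tmul]

variable (A B) in
/-- The reduced self tensor square of the integral closure. -/
abbrev Sq : Type u :=
  (integralClosure A B ⊗[A] integralClosure A B) ⧸ nilradical (integralClosure A B ⊗[A] integralClosure A B)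

instance : IsReduced (Sq A B) := (Ideal.isRadical_iff_quotient_reduced _).1 (Ideal.radical_isRadical _)

variable (A B) in
/-- The first embedding. -/
noncomputable def d₀ : integralClosure A B →ₐ[A] Sq A B :=
  (Ideal.Quotient.mkₐ A _).comp (Algebra.TensorProduct.includeLeft (S := A))

variable (A B) in
/-- The second embedding. -/
noncomputable def d₁ : integralClosure A B →ₐ[A] Sq A B :=
  (Ideal.Quotient.mkₐ A _).comp Algebra.TensorProduct.includeRight

theorem mk_sub_eq (i : integralClosure A B) :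
    d₀ A B i - d₁ A B i = Ideal.Quotient.mk _ (i ⊗ₜ[A] (1 : integralClosure A B) - (1 : integralClosure A B) ⊗ₜ[A] i) :=
  (map_sub (Ideal.Quotient.mk _) _ _).symm

theorem univHomeo_equalizer (hinj : Function.Injective (algebraMap A B)) :
    FlatMor.IsUnivHomeo (Spec.map (CommRingCat.ofHom
      (algebraMap A ((AlgHom.equalizer (d₀ A B) (d₁ A B)).map (integralClosure A B).val)))) := by
  set E := (AlgHom.equalizer (d₀ A B) (d₁ A B)).map (integralClosure A B).val with hE
  have hle : E ≤ integralClosure A B := by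
    rintro x ⟨i, -, rfl⟩
    exact i.2
  have hint : (algebraMap A E).IsIntegral := fun x =>
    (isIntegral_algHom_iff E.val Subtype.val_injective).1 (hle x.2)
  have hinj' : Function.Injective (algebraMap A E) := fun a b hab => hinj (congrArg Subtype.val hab)
  refine (AWNLib.univHomeo_iff _).2 ⟨hint, hint.comap_surjective hinj', fun K _ g₁ g₂ h => ?_⟩
  let j : E →ₐ[A] integralClosure A B := Subalgebra.inclusion hle
  have hj : j.toRingHom.IsIntegral := RingHom.IsIntegral.tower_top (algebraMap A E) j.toRingHom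
    (by rw [AlgHom.toRingHom_eq_coe, AlgHom.comp_algebraMap]; exact Algebra.IsIntegral.isIntegral)
  let ι := algebraMap K (AlgebraicClosure K)
  obtain ⟨G₁, e₁⟩ := WeakNormLib.exists_lift (ι.comp g₁) j.toRingHom (Subalgebra.inclusion_injective hle) hj
  obtain ⟨G₂, e₂⟩ := WeakNormLib.exists_lift (ι.comp g₂) j.toRingHom (Subalgebra.inclusion_injective hle) hj
  letI : Algebra A (AlgebraicClosure K) := (ι.comp (g₁.comp (algebraMap A E))).toAlgebra
  let H₁ : integralClosure A B →ₐ[A] AlgebraicClosure K :=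
    AlgHom.mk G₁ fun a => e₁ (algebraMap A E a)
  let H₂ : integralClosure A B →ₐ[A] AlgebraicClosure K :=
    AlgHom.mk G₂ fun a => (e₂ (algebraMap A E a)).trans (congrArg ι (DFunLike.congr_fun h a).symm)
  let L := Algebra.TensorProduct.lift H₁ H₂ (fun _ _ => Commute.all _ _)
  refine RingHom.ext fun x => ι.injective ?_
  obtain ⟨i, hi, hix⟩ := x.2
  have hxi : j x = i := Subtype.ext hix.symm
  have hn : L (i ⊗ₜ[A] (1 : integralClosure A B) - (1 : integralClosure A B) ⊗ₜ[A] i) = 0 := by
    refine IsReduced.eq_zero _ ((?_ : IsNilpotent _).map L)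
    refine mem_nilradical.1 ((Ideal.Quotient.eq_zero_iff_mem).1 ?_)
    rw [← mk_sub_eq, sub_eq_zero]
    exact hi
  simp only [L, map_sub, Algebra.TensorProduct.lift_tmul, map_one, mul_one, one_mul, sub_eq_zero] at hn
  exact ((e₁ x).symm.trans (congrArg H₁ hxi)).trans (hn.trans ((congrArg H₂ hxi).symm.trans (e₂ x)))

theorem le_equalizer (D : Subalgebra A B) (h : FlatMor.IsUnivHomeo (Spec.map (CommRingCat.ofHom (algebraMap A D)))) :
    D ≤ (AlgHom.equalizer (d₀ A B) (d₁ A B)).map (integralClosure A B).val := by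
  intro x hx
  have hint := ((AWNLib.univHomeo_iff _).1 h).1
  have hle : D ≤ integralClosure A B := fun y hy => (isIntegral_algHom_iff D.val Subtype.val_injective (x := ⟨y, hy⟩)).2 (hint ⟨y, hy⟩)
  refine ⟨⟨x, hle hx⟩, ?_, rfl⟩
  show d₀ A B _ = d₁ A B _
  rw [← sub_eq_zero, mk_sub_eq, Ideal.Quotient.eq_zero_iff_mem, mem_nilradical]
  have := (isNilpotent_sub h ⟨x, hx⟩).map
    (Algebra.TensorProduct.map (Subalgebra.inclusion hle) (Subalgebra.inclusion hle))
  simp only [map_sub, Algebra.TensorProduct.map_tmul, map_one] at this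
  exact this

/-- The maximal universal homeomorphism is the equalizer. -/
theorem eq_equalizer (hinj : Function.Injective (algebraMap A B)) (C : Subalgebra A B)
    (hC : FlatMor.IsUnivHomeo (Spec.map (CommRingCat.ofHom (algebraMap A C))))
    (hmax : ∀ D : Subalgebra A B, FlatMor.IsUnivHomeo (Spec.map (CommRingCat.ofHom (algebraMap A D))) → D ≤ C) :
    C = (AlgHom.equalizer (d₀ A B) (d₁ A B)).map (integralClosure A B).val :=
  le_antisymm (le_equalizer C hC) (hmax _ (univHomeo_equalizer hinj))

theorem isReduced_tensor {A' R : Type u} [CommRing A'] [Algebra A A'] [CommRing R] [Algebra A R] [IsReduced R]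
    (hA' : (∃ M : Submonoid A, IsLocalization M A') ∨ Algebra.Etale A A') : IsReduced (A' ⊗[A] R) := by
  rcases hA' with ⟨M, hM⟩ | hE
  · have := fun m : M => IsLocalization.map_units A' m
    refine ⟨fun z ⟨n, hz⟩ => ?_⟩
    obtain ⟨⟨r, m⟩, hr⟩ := IsLocalizedModule.surj M (TensorProduct.mk A A' R 1) z
    have h1 : TensorProduct.mk A A' R 1 (r ^ (n + 1)) = 0 := by
      have h3 : ((1 : A') ⊗ₜ[A] r : A' ⊗[A] R) ^ (n + 1) = 0 := by
        rw [show ((1 : A') ⊗ₜ[A] r : A' ⊗[A] R) = (m : A) • z from hr.symm, smul_pow, pow_succ z, hz, zero_mul,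
          smul_zero]
      rw [Algebra.TensorProduct.tmul_pow, one_pow] at h3
      exact h3
    obtain ⟨m', hm'⟩ := (IsLocalizedModule.eq_zero_iff M (TensorProduct.mk A A' R 1)).1 h1
    have h2 : (m' : A) • r = 0 := IsReduced.eq_zero _ ⟨n + 1, by
      rw [smul_pow, pow_succ (m' : A), mul_smul]
      rw [show (m' : A) • r ^ (n + 1) = 0 from hm', smul_zero]⟩
    have h3 : TensorProduct.mk A A' R 1 r = 0 :=
      (IsLocalizedModule.eq_zero_iff M (TensorProduct.mk A A' R 1)).2 ⟨m', h2⟩
    have h4 : (m : A) • z = 0 := hr.trans h3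
    exact ((Module.End.isUnit_iff _).1 (IsLocalizedModule.map_units (TensorProduct.mk A A' R 1) m)).1
      (h4.trans (map_zero _).symm)
  · have : IsReduced (R ⊗[A] A') := AlgSpLib.isReduced_of_etale R (R ⊗[A] A')
    exact isReduced_of_injective (Algebra.TensorProduct.comm A A' R) (AlgEquiv.injective _)

theorem exists_pair : ∃ (R : Type u) (_ : CommRing R) (_ : Algebra A R) (_ : IsReduced R)
    (p₀ p₁ : integralClosure A B →ₐ[A] R), AlgHom.equalizer p₀ p₁ = AlgHom.equalizer (d₀ A B) (d₁ A B) :=
  ⟨Sq A B, inferInstance, inferInstance, inferInstance, d₀ A B, d₁ A B, rfl⟩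

theorem lTensor_sub_eq_zero {A' I R D : Type u} [CommRing A'] [Algebra A A'] [CommRing I] [Algebra A I]
    [CommRing R] [Algebra A R] [IsReduced (A' ⊗[A] R)] [CommRing D] [Algebra A' D] (p₀ p₁ : I →ₐ[A] R)
    (hD : FlatMor.IsUnivHomeo (Spec.map (CommRingCat.ofHom (algebraMap A' D))))
    (j : D →ₐ[A'] A' ⊗[A] I) (x : D) :
    LinearMap.lTensor A' (p₀.toLinearMap - p₁.toLinearMap) (j x) = 0 := by
  let t₀ : A' ⊗[A] I →ₐ[A'] A' ⊗[A] R := Algebra.TensorProduct.map (AlgHom.id A' A') p₀
  let t₁ : A' ⊗[A] I →ₐ[A'] A' ⊗[A] R := Algebra.TensorProduct.map (AlgHom.id A' A') p₁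
  have hn := IsReduced.eq_zero _ ((isNilpotent_sub hD x).map
    (Algebra.TensorProduct.lift (t₀.comp j) (t₁.comp j) (fun _ _ => Commute.all _ _)))
  simp only [map_sub, Algebra.TensorProduct.lift_tmul, map_one, mul_one, one_mul] at hn
  rw [LinearMap.lTensor_sub, LinearMap.sub_apply]
  exact hn

theorem weakSubintegralClosure_baseChange {A' : Type u} [CommRing A'] [Algebra A A']
    (hinj : Function.Injective (algebraMap A B))
    (hA' : (∃ M : Submonoid A, IsLocalization M A') ∨ Algebra.Etale A A')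
    (C : Subalgebra A B) (hC : FlatMor.IsUnivHomeo (Spec.map (CommRingCat.ofHom (algebraMap A C))))
    (hmax : ∀ D : Subalgebra A B, FlatMor.IsUnivHomeo (Spec.map (CommRingCat.ofHom (algebraMap A D))) → D ≤ C)
    (C' : Subalgebra A' (A' ⊗[A] B)) (hC' : FlatMor.IsUnivHomeo (Spec.map (CommRingCat.ofHom (algebraMap A' C'))))
    (hmax' : ∀ D : Subalgebra A' (A' ⊗[A] B), FlatMor.IsUnivHomeo (Spec.map (CommRingCat.ofHom (algebraMap A' D))) → D ≤ C') :
    (C' : Set (A' ⊗[A] B)) = Set.range (Algebra.TensorProduct.map (AlgHom.id A A') C.val) := by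
  have hflat : Module.Flat A A' := by
    rcases hA' with ⟨M, hM⟩ | hE
    · exact IsLocalization.flat A' M
    · infer_instance
  have hbij : Function.Bijective (TensorProduct.toIntegralClosure A A' B) := by
    rcases hA' with ⟨M, hM⟩ | hE
    · exact TensorProduct.toIntegralClosure_bijective_of_isLocalization M
    · exact TensorProduct.toIntegralClosure_bijective_of_smooth
  obtain ⟨R, _, _, _, p₀, p₁, hR⟩ := exists_pair (A := A) (B := B)
  haveI : IsReduced (A' ⊗[A] R) := isReduced_tensor hA'
  let Φ : A' ⊗[A] C →ₐ[A'] A' ⊗[A] B := Algebra.TensorProduct.map (AlgHom.id A' A') C.val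
  have hΦ : ∀ w, Φ w = Algebra.TensorProduct.map (AlgHom.id A A') C.val w := fun w => rfl
  have hΦi : Function.Injective Φ :=
    Module.Flat.lTensor_preserves_injective_linearMap (M := A') C.val.toLinearMap Subtype.val_injective
  refine Set.Subset.antisymm (fun x hx => ?_) ?_
  · have hint := ((AWNLib.univHomeo_iff _).1 hC').1
    have hle : C' ≤ integralClosure A' (A' ⊗[A] B) := fun y hy => (isIntegral_algHom_iff C'.val Subtype.val_injective (x := ⟨y, hy⟩)).2 (hint ⟨y, hy⟩)
    let ε := AlgEquiv.ofBijective _ hbij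
    let j : C' →ₐ[A'] A' ⊗[A] integralClosure A B := ε.symm.toAlgHom.comp (Subalgebra.inclusion hle)
    let z := j ⟨x, hx⟩
    let δ : integralClosure A B →ₗ[A] R := p₀.toLinearMap - p₁.toLinearMap
    let S := AlgHom.equalizer p₀ p₁
    have hex : Function.Exact S.val.toLinearMap δ := fun i => by
      constructor
      · exact fun hi => ⟨⟨i, sub_eq_zero.1 hi⟩, rfl⟩
      · rintro ⟨w, rfl⟩
        exact sub_eq_zero.2 w.2
    have hz : LinearMap.lTensor A' δ z = 0 :=
      lTensor_sub_eq_zero p₀ p₁ hC' j ⟨x, hx⟩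
    obtain ⟨w, hw⟩ := (Module.Flat.lTensor_exact A' hex z).1 hz
    have hS : ∀ i : S, ((i : integralClosure A B) : B) ∈ C := fun i => by
      rw [eq_equalizer hinj C hC hmax, ← hR]
      exact ⟨i, i.2, rfl⟩
    let κ : S →ₐ[A] C := ((integralClosure A B).val.comp S.val).codRestrict C hS
    refine ⟨Algebra.TensorProduct.map (AlgHom.id A A') κ w, ?_⟩
    have hεz : ε z = Subalgebra.inclusion hle ⟨x, hx⟩ := ε.apply_symm_apply _
    refine Eq.trans ?_ (congrArg Subtype.val hεz)
    rw [← hw]
    show Algebra.TensorProduct.map (AlgHom.id A A') C.val (Algebra.TensorProduct.map (AlgHom.id A A') κ w) =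
      Algebra.TensorProduct.map (AlgHom.id A' A') (integralClosure A B).val (LinearMap.lTensor A' S.val.toLinearMap w)
    clear hεz hw
    induction w using TensorProduct.induction_on with
    | zero => simp
    | add a b ha hb => simp only [map_add, ha, hb]
    | tmul a b => rfl
  · have hr : Φ.range ≤ C' := by
      refine hmax' _ ?_
      let e := AlgEquiv.ofInjective Φ hΦi
      obtain ⟨h1, h2, h3⟩ := (AWNLib.univHomeo_iff _).1 (AWNLib.univHomeo_includeRight (A := A) (B := C) (W := A') hC)
      let c := Algebra.TensorProduct.comm A C A'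
      let ψ : C ⊗[A] A' ≃+* Φ.range := c.toRingEquiv.trans e.toRingEquiv
      have he : algebraMap A' Φ.range = ψ.toRingHom.comp
          (Algebra.TensorProduct.includeRight : A' →ₐ[A] C ⊗[A] A').toRingHom := by
        ext a
        show algebraMap A' (A' ⊗[A] B) a = Φ (c ((1 : C) ⊗ₜ[A] a))
        simp [c, Φ, Algebra.TensorProduct.algebraMap_apply]
      rw [he]
      refine (AWNLib.univHomeo_iff _).2 ⟨h1.trans _ _ (RingHom.isIntegral_of_surjective _ ψ.surjective),
        fun P => ?_, fun K _ g₁ g₂ h => (RingHom.cancel_right ψ.surjective).1 (h3 K (g₁.comp ψ.toRingHom) (g₂.comp ψ.toRingHom) h)⟩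
      obtain ⟨Q, rfl⟩ := h2 P
      exact ⟨PrimeSpectrum.comap ψ.symm.toRingHom Q, by
        ext a
        simp [PrimeSpectrum.comap]⟩
    rintro _ ⟨w, rfl⟩
    exact hr ⟨w, rfl⟩

end WeakSubintLib
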